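import Groth.Prelude.Def_CartDual
import Mathlib.LinearAlgebra.Dual.Lemmas
import Mathlib.RingTheory.Coalgebra.GroupLike

/-! Functionals separate tensors of finite projective modules; evaluation on the dual algebra. -/

universe u v

open TensorProduct

namespace Groth.Agent.Hopf34

variable {R : Type u} [CommRing R] {E : Type v} [AddCommGroup E] [Module R E]
  [Module.Finite R E] [Module.Projective R E]

theorem ext_dualPair {z w : E ⊗[R] E}
    (h : ∀ φ ψ : E →ₗ[R] R, LinearMap.mul' R R (TensorProduct.map φ ψ z) = LinearMap.mul' R R (TensorProduct.map φ ψ w)) :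
    z = w := by
  rw [← sub_eq_zero, ← Module.forall_dual_apply_eq_zero_iff R]
  intro F
  obtain ⟨y, rfl⟩ := (CartDual.dualTensorEquiv R E E).surjective F
  induction y using TensorProduct.induction_on with
  | zero => simp
  | add p q hp hq => rw [map_add, LinearMap.add_apply, hp, hq, add_zero]
  | tmul φ ψ =>
    rw [map_sub, sub_eq_zero]
    have : CartDual.dualTensorEquiv R E E (φ ⊗ₜ ψ) = LinearMap.mul' R R ∘ₗ TensorProduct.map φ ψ :=
      TensorProduct.ext' fun a b => by simp
    rw [this]
    exact h φ ψ

/-- Every linear form on the convolution algebra is evaluation at a unique element. -/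
theorem existsUnique_eval (f : WithConv (E →ₗ[R] R) →ₗ[R] R) :
    ∃! x : E, ∀ φ : E →ₗ[R] R, f (WithConv.toConv φ) = φ x := by
  obtain ⟨x, hx⟩ := (Module.bijective_dual_eval R E).2
    (f ∘ₗ (WithConv.linearEquiv R (E →ₗ[R] R)).symm.toLinearMap)
  refine ⟨x, fun φ => (LinearMap.congr_fun hx φ).symm, fun y hy => ?_⟩
  refine (Module.bijective_dual_eval R E).1 (LinearMap.ext fun φ => ?_)
  show φ y = Module.Dual.eval R E x φ
  rw [hx, ← hy φ]
  rfl

end Groth.Agent.Hopf34
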