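import Groth.Prelude.Def_HopfRep
import Mathlib.LinearAlgebra.TensorProduct.RightExactness
import Mathlib.LinearAlgebra.TensorProduct.Finiteness
import Mathlib.RingTheory.Flat.Basic
import Mathlib.LinearAlgebra.FreeModule.Basic
import Mathlib.LinearAlgebra.Basis.VectorSpace
import Mathlib.RingTheory.Noetherian.Basic
import Mathlib.LinearAlgebra.FiniteDimensional.Basic
import Mathlib.RingTheory.Finiteness.Lattice

/-! Slices of tensors and the finiteness theorem for comodules over a field. -/

universe u v w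

open TensorProduct

namespace Groth.Agent.Hopf34

variable {k : Type u} [Field k] {A : Type v} [AddCommGroup A] [Module k A]
  {V : Type w} [AddCommGroup V] [Module k V]

/-- `id ⊗ φ` read in `V`. -/
noncomputable def sl (φ : A →ₗ[k] k) : V ⊗[k] A →ₗ[k] V :=
  (TensorProduct.rid k V).toLinearMap ∘ₗ φ.lTensor V

@[simp] theorem sl_tmul (φ : A →ₗ[k] k) (v : V) (a : A) : sl φ (v ⊗ₜ[k] a) = φ a • v := by simp [sl]

theorem sl_rTensor {W : Type*} [AddCommGroup W] [Module k W] (f : V →ₗ[k] W) (φ : A →ₗ[k] k)
    (x : V ⊗[k] A) : sl φ (f.rTensor A x) = f (sl φ x) := by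
  induction x using TensorProduct.induction_on with
  | zero => simp
  | tmul v a => simp
  | add x y hx hy => simp [hx, hy]

theorem eq_zero_of_forall_sl {x : V ⊗[k] A} (h : ∀ φ : A →ₗ[k] k, sl φ x = 0) : x = 0 := by
  classical
  let b := Module.Basis.ofVectorSpace k A
  apply (TensorProduct.equivFinsuppOfBasisRight (M := V) b).injective
  rw [map_zero]
  ext i
  have : ∀ y : V ⊗[k] A, TensorProduct.equivFinsuppOfBasisRight b y i = sl (b.coord i) y := by
    intro y
    induction y using TensorProduct.induction_on with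
    | zero => simp
    | tmul v a => simp
    | add y z hy hz => simp [hy, hz]
  rw [this, h, Finsupp.coe_zero, Pi.zero_apply]

theorem mem_range_rTensor_iff (W : Submodule k V) (x : V ⊗[k] A) :
    x ∈ LinearMap.range (W.subtype.rTensor A) ↔ ∀ φ : A →ₗ[k] k, sl φ x ∈ W := by
  constructor
  · rintro ⟨y, rfl⟩ φ
    rw [sl_rTensor]
    exact (sl φ y).2
  · intro h
    have hex : Function.Exact W.subtype W.mkQ := LinearMap.exact_subtype_mkQ W
    refine ((rTensor_exact A hex W.mkQ_surjective) x).1 (eq_zero_of_forall_sl fun φ => ?_)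
    rw [sl_rTensor]
    exact (Submodule.Quotient.mk_eq_zero W).2 (h φ)

theorem sl_finite (x : V ⊗[k] A) :
    ∃ W : Submodule k V, Module.Finite k W ∧ ∀ φ : A →ₗ[k] k, sl φ x ∈ W := by
  obtain ⟨S, rfl⟩ := TensorProduct.exists_finset x
  refine ⟨Submodule.span k (Prod.fst '' (S : Set (V × A))),
    Module.Finite.span_of_finite k (S.finite_toSet.image _), fun φ => ?_⟩
  rw [map_sum]
  refine Submodule.sum_mem _ fun p hp => ?_
  rw [sl_tmul]
  exact Submodule.smul_mem _ _ (Submodule.subset_span ⟨p, hp, rfl⟩)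

variable [Coalgebra k A] [HopfRep.Comod k A V]

open HopfRep

theorem isSubcomod_iff_sl (W : Submodule k V) :
    IsSubcomod (k := k) (A := A) W ↔
      ∀ w ∈ W, ∀ φ : A →ₗ[k] k, sl φ (Comod.coact (k := k) (A := A) w) ∈ W :=
  forall₂_congr fun _ _ => mem_range_rTensor_iff W _

theorem sl_counit (v : V) :
    sl (CoalgebraStruct.counit (R := k) (A := A)) (Comod.coact (k := k) (A := A) v) = v := by
  have h := LinearMap.congr_fun (Comod.counit_comp (k := k) (A := A) (V := V)) v
  simp only [LinearMap.comp_apply] at h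
  simp [sl, h]

/-- The convolution of two functionals. -/
noncomputable def conv (φ ψ : A →ₗ[k] k) : A →ₗ[k] k :=
  (TensorProduct.lid k k).toLinearMap ∘ₗ TensorProduct.map φ ψ ∘ₗ CoalgebraStruct.comul

theorem sl_coact_sl (φ ψ : A →ₗ[k] k) (v : V) :
    sl φ (Comod.coact (k := k) (A := A) (sl ψ (Comod.coact (k := k) (A := A) v))) =
      sl (conv φ ψ) (Comod.coact (k := k) (A := A) v) := by
  have h := LinearMap.congr_fun (Comod.coassoc (k := k) (A := A) (V := V)) v
  simp only [LinearMap.comp_apply, LinearEquiv.coe_coe] at h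
  have h2 := congrArg (sl ((TensorProduct.lid k k).toLinearMap ∘ₗ TensorProduct.map φ ψ)) h
  have e1 : ∀ y : (V ⊗[k] A) ⊗[k] A, sl ((TensorProduct.lid k k).toLinearMap ∘ₗ TensorProduct.map φ ψ)
      (TensorProduct.assoc k V A A y) = sl φ (sl ψ y) := by
    intro y
    induction y using TensorProduct.induction_on with
    | zero => simp
    | add y z hy hz => simp [hy, hz]
    | tmul y a =>
      induction y using TensorProduct.induction_on with
      | zero => simp
      | add y z hy hz => simp [hy, hz, add_tmul, smul_add]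
      | tmul v b => simp [smul_smul, mul_comm]
  have e2 : ∀ y : V ⊗[k] A, sl ((TensorProduct.lid k k).toLinearMap ∘ₗ TensorProduct.map φ ψ)
      ((CoalgebraStruct.comul (R := k) (A := A)).lTensor V y) = sl (conv φ ψ) y := by
    intro y
    induction y using TensorProduct.induction_on with
    | zero => simp
    | add y z hy hz => simp [hy, hz]
    | tmul v a => simp [conv]
  rw [e1, e2] at h2
  rw [← h2, sl_rTensor]

variable (A) in
/-- The smallest subcomodule containing `v`. -/
noncomputable def gen (v : V) : Submodule k V :=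
  LinearMap.range
    ({ toFun := fun φ : A →ₗ[k] k => sl φ (Comod.coact (k := k) (A := A) v)
       map_add' := fun φ ψ => by simp [sl, LinearMap.lTensor_add]
       map_smul' := fun c φ => by simp [sl, LinearMap.lTensor_smul] } : (A →ₗ[k] k) →ₗ[k] V)

theorem mem_gen (v : V) : v ∈ gen (k := k) A v := ⟨_, sl_counit v⟩

theorem isSubcomod_gen (v : V) : IsSubcomod (k := k) (A := A) (gen A v) := by
  rw [isSubcomod_iff_sl]
  rintro _ ⟨ψ, rfl⟩ φ
  exact ⟨conv φ ψ, (sl_coact_sl φ ψ v).symm⟩

instance finite_gen (v : V) : Module.Finite k (gen (k := k) A v) := by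
  obtain ⟨W, hW, h⟩ := sl_finite (Comod.coact (k := k) (A := A) v)
  refine Submodule.finiteDimensional_of_le (S₂ := W) ?_
  rintro _ ⟨φ, rfl⟩
  exact h φ

theorem gen_le {v : V} {W : Submodule k V} (hW : IsSubcomod (k := k) (A := A) W) (hv : v ∈ W) :
    gen A v ≤ W := by
  rintro _ ⟨φ, rfl⟩
  exact (isSubcomod_iff_sl W).1 hW v hv φ

theorem isSubcomod_iSup {ι : Sort*} (W : ι → Submodule k V)
    (h : ∀ i, IsSubcomod (k := k) (A := A) (W i)) : IsSubcomod (k := k) (A := A) (⨆ i, W i) := by
  rw [isSubcomod_iff_sl]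
  intro w hw φ
  have : (⨆ i, W i) ≤ (⨆ i, W i).comap (sl φ ∘ₗ Comod.coact (k := k) (A := A)) :=
    iSup_le fun i x hx => le_iSup W i ((isSubcomod_iff_sl (W i)).1 (h i) x hx φ)
  exact this hw

/-- Every finite set lies in a finite-dimensional subcomodule, inside any given one containing it. -/
theorem exists_finite_isSubcomod (s : Set V) (hs : s.Finite) :
    ∃ W : Submodule k V, Module.Finite k W ∧ IsSubcomod (k := k) (A := A) W ∧ s ⊆ W ∧
      ∀ U : Submodule k V, IsSubcomod (k := k) (A := A) U → s ⊆ U → W ≤ U := by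
  have := hs.to_subtype
  refine ⟨⨆ v : s, gen (k := k) A (v : V), inferInstance, isSubcomod_iSup _ fun v => isSubcomod_gen _,
    fun v hv => Submodule.mem_iSup_of_mem ⟨v, hv⟩ (mem_gen v), fun U hU hsU =>
      iSup_le fun v => gen_le hU (hsU v.2)⟩

end Groth.Agent.Hopf34
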